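import Cfsg.Agent.J4Rep94.C13.Data

/-!
# Certificate data
-/

set_option autoImplicit false
set_option maxRecDepth 100000

namespace Cfsg.Agent.J4Rep94.C13

open Cfsg.Agent.CosetEnum

def fv0 : ℕ := 0x790000100076001f5000020003d00009001bc0000100074001f3000020006e00006001be0000100072001f10000200086000090010a0000100070001ef00002000850000600108000010006e001ed00002000840000a00106000010006c001eb00002000830000600104000010006a001e9000020008200009001020000100068001e6000020008100006001cd0000100100001e400002000cd00009001b10000100198001e300002000d900009001b30000100064001e100002000da00006001b50000100062001df00002000db0000a001b70000100060001dd00002000dc00006001b9000010005e001db00002000dd00009001bb000010005c001d800002000de000060005a0005800056000540005200050001c90012f001390013b0013d0013f001ca00196001d7001ae001ac001aa0019c001d4000eb000ed000ef000f1000f3000f5000f7000f90001c001ba001b8001b6001b4001b2001b0000fe000fc000fa000090007d00008001ae001ac001aa0019c001d4000eb000ed0000700197001cb0013e0013c0013a001380012e0012c0004c0004a000480004600044001c60011f00121001230012500127001290012b001d3001a6001a4001a2001a00019e000f2000f0000ee0001e00077000070019a00001000e8000010007400002001a9000010012a001d000002000d50000600128001260012400122001200011e0011c00040001c40010f00111001130011500117001190011b001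c300084001ce000df000e100015001a8001a6001a4001a2001a00019e000f2000f0000ee000ec000ea000e8000e6000e4000e20000f00071000050008200001000dc0000100041000020019800001000660000100033000020013e0013c0013a001380012e001c800006001960019400192001900018e0018c0018a00188001860018400182001800017e0017c0017a00178001760017400172001700016e0016c0016a00168001660016400162001600015e0015c0015a00158001560015400152001500014e0014c0014a001480014600144001420014000136001340013200130000500003100028000040012c000010004e00001000270000200042000010011c0000100021000020003e000010010c000010001f000020008400082000800007e0007c001c00000d0000f00011000130000a0011a00118001160011400112001100010e0010c0003c0003a00038000360003400032000300002e0002c0002a00028000260002400022000200001e0001c0001a0001800016000140001d0000a000030007a000010000a000010000500002001bd00078000020010a0010800106001040010200100000fe000fc000fa000f8000f6000f4000f2000f0000ee000ec000ea000e8000e6000e4000e2000e0000de000dc000800007e0007c0007a00008000060000400002000000002100000000010007800001000da000d8000d6000d4000d2000d0000ce000cc000ca000c8000c6000c4000c2000c0000be000bc000ba000b8000b6000b4000b2000b0000ae000ac000aa000a8000a6000a4000a2000a00009e0009c0009a00098000960009400092000900008e0008c0008a00088000860008400082000800007e0007c0007a0000800006000040000200000000360000000000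
theorem fok0 : sys.checkFacts 222 30 fv0 = true := by decide +kernel


end Cfsg.Agent.J4Rep94.C13
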